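import Mathlib

/-! Approximation for finitely many discrete valuations of a field (adapted from `FFLib.Place`). -/

namespace Groth.Agent.DvrApprox

open WithZero Filter

variable {K : Type*} [Field K]

variable (K) in
/-- Normalised discrete valuations. -/
def DV : Type _ := {v : Valuation K (WithZero (Multiplicative ℤ)) // Function.Surjective v}

/-- The order at a discrete valuation. -/
def DV.ord (P : DV K) (x : K) : ℤ := -WithZero.log (P.1 x)

theorem val_ne_zero (P : DV K) {x : K} (hx : x ≠ 0) : P.1 x ≠ 0 := by simpa using hx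

theorem val_eq_exp (P : DV K) {x : K} (hx : x ≠ 0) : P.1 x = exp (-P.ord x) := by
  simp [DV.ord, exp_log (val_ne_zero P hx)]

theorem ord_of_val_eq (P : DV K) {x : K} {n : ℤ} (h : P.1 x = exp (-n)) : P.ord x = n := by
  rw [DV.ord, h, log_exp, neg_neg]

@[simp] theorem ord_zero (P : DV K) : P.ord (0 : K) = 0 := by simp [DV.ord]

@[simp] theorem ord_one (P : DV K) : P.ord (1 : K) = 0 := by simp [DV.ord]

theorem ord_mul (P : DV K) {x y : K} (hx : x ≠ 0) (hy : y ≠ 0) :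
    P.ord (x * y) = P.ord x + P.ord y := by
  simp only [DV.ord, map_mul]
  rw [log_mul (val_ne_zero P hx) (val_ne_zero P hy)]; ring

theorem ord_inv (P : DV K) (x : K) : P.ord x⁻¹ = -P.ord x := by
  simp [DV.ord, map_inv₀, log_inv]

theorem ord_pow (P : DV K) (x : K) (n : ℕ) : P.ord (x ^ n) = n * P.ord x := by
  simp [DV.ord, map_pow, log_pow]

theorem ord_zpow (P : DV K) (x : K) (n : ℤ) : P.ord (x ^ n) = n * P.ord x := by
  simp [DV.ord, map_zpow₀, log_zpow]

theorem val_le_exp_iff (P : DV K) {x : K} (hx : x ≠ 0) (n : ℤ) :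
    P.1 x ≤ exp n ↔ -n ≤ P.ord x := by
  rw [val_eq_exp P hx, exp_le_exp]; omega

theorem val_le_one_iff (P : DV K) {x : K} (hx : x ≠ 0) : P.1 x ≤ 1 ↔ 0 ≤ P.ord x := by
  simpa using val_le_exp_iff P hx 0

theorem val_lt_one_iff (P : DV K) {x : K} (hx : x ≠ 0) : P.1 x < 1 ↔ 0 < P.ord x := by
  rw [lt_iff_le_and_ne, val_le_one_iff P hx, lt_iff_le_and_ne]
  refine and_congr_right fun _ => not_congr ?_
  rw [val_eq_exp P hx, exp_eq_one, neg_eq_zero, eq_comm]

theorem one_lt_val_iff (P : DV K) {x : K} (hx : x ≠ 0) : 1 < P.1 x ↔ P.ord x < 0 := by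
  rw [← not_le, val_le_one_iff P hx, not_le]

theorem ord_add_le (P : DV K) {x y : K} (h : x + y ≠ 0) (hx : x ≠ 0) (hy : y ≠ 0) :
    min (P.ord x) (P.ord y) ≤ P.ord (x + y) := by
  have h1 := P.1.map_add x y
  rw [val_eq_exp P h, val_eq_exp P hx, val_eq_exp P hy] at h1
  rcases le_max_iff.mp h1 with h2 | h2 <;> rw [exp_le_exp] at h2 <;> omega

theorem exists_unif (P : DV K) : ∃ t : K, t ≠ 0 ∧ P.1 t = exp (-1) := by
  obtain ⟨t, ht⟩ := P.2 (exp (-1))
  exact ⟨t, fun h => by simp [h] at ht; exact exp_ne_zero ht.symm, ht⟩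

theorem exists_val_eq_exp (P : DV K) (n : ℤ) : ∃ t : K, t ≠ 0 ∧ P.1 t = exp n := by
  obtain ⟨t, ht⟩ := P.2 (exp n)
  exact ⟨t, fun h => by simp [h] at ht; exact exp_ne_zero ht.symm, ht⟩

/-- Two places with one valuation ring contained in the other are equal. -/
theorem place_eq_of_le {P Q : DV K} (h : ∀ x : K, P.1 x ≤ 1 → Q.1 x ≤ 1) : P = Q := by
  obtain ⟨t, ht0, ht⟩ := exists_unif P
  have htP : P.ord t = 1 := ord_of_val_eq P ht
  have key : ∀ x : K, x ≠ 0 → Q.ord x = P.ord x * Q.ord t := by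
    intro x hx
    have hu0 : x / t ^ P.ord x ≠ 0 := div_ne_zero hx (zpow_ne_zero _ ht0)
    have hu : P.ord (x / t ^ P.ord x) = 0 := by
      rw [div_eq_mul_inv, ord_mul P hx (inv_ne_zero (zpow_ne_zero _ ht0)), ord_inv, ord_zpow, htP]
      ring
    have h1 := (val_le_one_iff Q hu0).mp (h _ ((val_le_one_iff P hu0).mpr hu.ge))
    have h2 := (val_le_one_iff Q (inv_ne_zero hu0)).mp
      (h _ ((val_le_one_iff P (inv_ne_zero hu0)).mpr (by rw [ord_inv, hu]; simp)))
    rw [ord_inv] at h2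
    have h3 : Q.ord (x / t ^ P.ord x) = 0 := by omega
    rw [div_eq_mul_inv, ord_mul Q hx (inv_ne_zero (zpow_ne_zero _ ht0)), ord_inv, ord_zpow] at h3
    omega
  have hQt : Q.ord t = 1 := by
    have h0 : 0 ≤ Q.ord t :=
      (val_le_one_iff Q ht0).mp (h _ ((val_le_one_iff P ht0).mpr (by omega)))
    obtain ⟨s, hs0, hs⟩ := exists_unif Q
    have := key s hs0
    rw [ord_of_val_eq Q hs] at this
    exact Int.eq_one_of_mul_eq_one_left h0 this.symm
  refine Subtype.ext (Valuation.ext fun x => ?_)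
  rcases eq_or_ne x 0 with rfl | hx
  · simp
  · rw [val_eq_exp P hx, val_eq_exp Q hx, key x hx, hQt, mul_one]

theorem place_eq_of_iff {P Q : DV K} (h : ∀ x : K, P.1 x ≤ 1 ↔ Q.1 x ≤ 1) : P = Q :=
  place_eq_of_le fun x => (h x).mp

theorem eventually_lt_pow {a : WithZero (Multiplicative ℤ)} (ha : 1 < a)
    (b : WithZero (Multiplicative ℤ)) : ∀ᶠ N : ℕ in atTop, b < a ^ N := by
  have ha0 : a ≠ 0 := (zero_lt_one.trans ha).ne'
  rw [← exp_log ha0, ← exp_zero, exp_lt_exp] at ha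
  rcases eq_or_ne b 0 with rfl | hb
  · exact Eventually.of_forall fun N => zero_lt_iff.mpr (pow_ne_zero _ ha0)
  · refine eventually_atTop.mpr ⟨(log b + 1).toNat, fun N hN => ?_⟩
    rw [← exp_log hb, ← exp_log ha0, ← exp_nsmul, exp_lt_exp, nsmul_eq_mul]
    have : (log b + 1) ≤ N := by omega
    nlinarith

theorem eventually_pow_le {a : WithZero (Multiplicative ℤ)} (ha : a < 1)
    {b : WithZero (Multiplicative ℤ)} (hb : b ≠ 0) : ∀ᶠ N : ℕ in atTop, a ^ N ≤ b := by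
  rcases eq_or_ne a 0 with rfl | ha0
  · exact eventually_atTop.mpr ⟨1, fun N hN => by simp [zero_pow (by omega : N ≠ 0)]⟩
  · have : 1 < a⁻¹ := (one_lt_inv₀ (zero_lt_iff.mpr ha0)).mpr ha
    filter_upwards [eventually_lt_pow this b⁻¹] with N hN
    rw [inv_pow] at hN
    exact ((inv_lt_inv₀ (zero_lt_iff.mpr hb) (zero_lt_iff.mpr (pow_ne_zero _ ha0))).mp hN).le

theorem exists_sep_two {P Q : DV K} (h : Q ≠ P) : ∃ z : K, P.1 z < 1 ∧ 1 < Q.1 z := by
  obtain ⟨a, haP, haQ⟩ : ∃ a, P.1 a ≤ 1 ∧ 1 < Q.1 a := by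
    by_contra! h'
    exact h (place_eq_of_le h').symm
  obtain ⟨b, hb0, hb⟩ := exists_unif P
  obtain ⟨N, hN⟩ := (eventually_lt_pow haQ (Q.1 b)⁻¹).exists
  refine ⟨a ^ N * b, ?_, ?_⟩
  · rw [map_mul, map_pow]
    refine (mul_le_mul_left (pow_le_one₀ zero_le haP) _).trans_lt ?_
    rw [one_mul, hb, ← exp_zero, exp_lt_exp]; omega
  · rw [map_mul, map_pow]
    rwa [← inv_lt_iff_one_lt_mul₀ (zero_lt_iff.mpr (val_ne_zero Q hb0))]

theorem exists_sep (S : Finset (DV K)) {P : DV K} (hP : P ∉ S) :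
    ∃ z : K, P.1 z < 1 ∧ ∀ Q ∈ S, 1 < Q.1 z := by
  classical
  induction S using Finset.induction_on with
  | empty => exact ⟨0, by simp, by simp⟩
  | insert R S hR ih =>
    simp only [Finset.mem_insert, not_or] at hP
    obtain ⟨z, hzP, hzS⟩ := ih hP.2
    obtain ⟨w, hwP, hwR⟩ := exists_sep_two (Ne.symm hP.1)
    rcases lt_trichotomy 1 (R.1 z) with h | h | h
    · exact ⟨z, hzP, Finset.forall_mem_insert .. |>.mpr ⟨h, hzS⟩⟩
    · have hw0 : w ≠ 0 := by rintro rfl; simp at hwR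
      have hev : ∀ᶠ N : ℕ in atTop, ∀ Q ∈ S, (Q.1 w)⁻¹ < Q.1 z ^ N :=
        (eventually_all_finset S).mpr fun Q hQ => eventually_lt_pow (hzS Q hQ) _
      obtain ⟨N, hN⟩ := hev.exists
      refine ⟨z ^ N * w, ?_, Finset.forall_mem_insert .. |>.mpr ⟨?_, fun Q hQ => ?_⟩⟩
      · rw [map_mul, map_pow]
        exact (mul_le_mul_left (pow_le_one₀ zero_le hzP.le) _).trans_lt (by rwa [one_mul])
      · rw [map_mul, map_pow, ← h, one_pow, one_mul]; exact hwR
      · rw [map_mul, map_pow, ← inv_lt_iff_one_lt_mul₀ (zero_lt_iff.mpr (val_ne_zero Q hw0))]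
        exact hN Q hQ
    · have hev : ∀ᶠ N : ℕ in atTop, ∀ Q ∈ S, max 1 (Q.1 w) < Q.1 z ^ N :=
        (eventually_all_finset S).mpr fun Q hQ => eventually_lt_pow (hzS Q hQ) _
      obtain ⟨N, hN, hN0⟩ := (hev.and (eventually_ge_atTop 1)).exists
      refine ⟨z ^ N + w, ?_, Finset.forall_mem_insert .. |>.mpr ⟨?_, fun Q hQ => ?_⟩⟩
      · refine (P.1.map_add _ _).trans_lt (max_lt ?_ hwP)
        rw [map_pow]; exact pow_lt_one₀ zero_le hzP (by omega)
      · rw [Valuation.map_add_eq_of_lt_right]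
        · exact hwR
        · rw [map_pow]; exact (pow_lt_one₀ zero_le h (by omega)).trans hwR
      · rw [Valuation.map_add_eq_of_lt_left]
        · rw [map_pow]; exact (le_max_left _ _).trans_lt (hN Q hQ)
        · rw [map_pow]; exact (le_max_right _ _).trans_lt (hN Q hQ)

theorem exists_one (S : Finset (DV K)) {P : DV K} (hP : P ∉ S) (m : ℤ) :
    ∃ e : K, P.1 (e - 1) ≤ exp (-m) ∧ ∀ Q ∈ S, Q.1 e ≤ exp (-m) := by
  obtain ⟨z, hzP, hzS⟩ := exists_sep S hP
  have h1 : ∀ᶠ N : ℕ in atTop, P.1 z ^ N ≤ exp (-m) := eventually_pow_le hzP exp_ne_zero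
  have h2 : ∀ᶠ N : ℕ in atTop, ∀ Q ∈ S, max 1 (exp m) < Q.1 z ^ N :=
    (eventually_all_finset S).mpr fun Q hQ => eventually_lt_pow (hzS Q hQ) _
  obtain ⟨N, ⟨hN1, hN2⟩, hN0⟩ := ((h1.and h2).and (eventually_ge_atTop 1)).exists
  have hP1 : P.1 (1 + z ^ N) = 1 :=
    P.1.map_one_add_of_lt (by rw [map_pow]; exact pow_lt_one₀ zero_le hzP (by omega))
  have hne : 1 + z ^ N ≠ 0 := fun h => by simp [h] at hP1
  refine ⟨(1 + z ^ N)⁻¹, ?_, fun Q hQ => ?_⟩
  · have : (1 + z ^ N)⁻¹ - 1 = -(z ^ N) * (1 + z ^ N)⁻¹ := by field_simp; ring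
    rw [this, map_mul, Valuation.map_neg, map_inv₀, hP1, map_pow, inv_one, mul_one]
    exact hN1
  · have h := hN2 Q hQ
    rw [max_lt_iff] at h
    have hQ1 : Q.1 (1 + z ^ N) = Q.1 z ^ N := by
      rw [Valuation.map_add_eq_of_lt_right Q.1 (by simpa using h.1), map_pow]
    rw [map_inv₀, hQ1, exp_neg]
    exact inv_anti₀ (zero_lt_iff.mpr exp_ne_zero) h.2.le

/-- Weak approximation for finitely many places. -/
theorem exists_approx (S : Finset (DV K)) (x : DV K → K) (m : DV K → ℤ) :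
    ∃ y : K, ∀ P ∈ S, P.1 (y - x P) ≤ exp (-(m P)) := by
  classical
  let M : ℕ := (S ×ˢ S).sup fun p => (m p.2 + log (p.2.1 (x p.1))).toNat
  have hM : ∀ P ∈ S, ∀ Q ∈ S, ∀ a : K, Q.1 a ≤ exp (-(M : ℤ)) →
      Q.1 (x P * a) ≤ exp (-(m Q)) := by
    intro P hP Q hQ a ha
    rcases eq_or_ne (x P) 0 with h0 | h0
    · simp [h0]
    · have : (m Q + log (Q.1 (x P))).toNat ≤ M :=
        Finset.le_sup (f := fun p : DV K × DV K => (m p.2 + log (p.2.1 (x p.1))).toNat)
          (Finset.mk_mem_product hP hQ)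
      rw [map_mul]
      refine (mul_le_mul_right ha _).trans ?_
      rw [← exp_log (val_ne_zero Q h0), ← exp_add, exp_le_exp]; omega
  have := fun P : DV K => exists_one (S.erase P) (Finset.notMem_erase P S) (M : ℤ)
  choose e he1 he2 using this
  refine ⟨∑ P ∈ S, x P * e P, fun Q hQ => ?_⟩
  rw [← Finset.add_sum_erase S _ hQ, add_sub_right_comm, ← mul_sub_one]
  refine (Q.1.map_add _ _).trans (max_le (hM Q hQ Q hQ _ (he1 Q)) ?_)
  refine Valuation.map_sum_le _ fun P hP => ?_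
  rw [Finset.mem_erase] at hP
  exact hM P hP.2 Q hQ _ (he2 P Q (Finset.mem_erase.mpr ⟨hP.1.symm, hQ⟩))

theorem exists_approx_eq (S : Finset (DV K)) (x : DV K → K) (m : DV K → ℤ) :
    ∃ y : K, ∀ P ∈ S, P.1 (y - x P) = exp (-(m P)) := by
  have := fun P : DV K => exists_val_eq_exp P (-(m P))
  choose u hu0 hu using this
  obtain ⟨y, hy⟩ := exists_approx S (fun P => x P + u P) (fun P => m P + 1)
  refine ⟨y, fun P hP => ?_⟩
  have : y - x P = (y - (x P + u P)) + u P := by ring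
  rw [this, Valuation.map_add_eq_of_lt_right]
  · exact hu P
  · refine (hy P hP).trans_lt ?_
    rw [hu P, exp_lt_exp]; omega

end Groth.Agent.DvrApprox
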